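import Groth.Agent.SGA3Union.SubComod
import Groth.Agent.CommAlg4.CharFinite
import Mathlib.RingTheory.Flat.TorsionFree
import Mathlib.LinearAlgebra.FreeModule.PID
import Mathlib.RingTheory.FiniteType
import Mathlib.LinearAlgebra.Matrix.Adjugate

/-!
# Closed flat subgroups over a principal ideal domain stabilise a line
-/

set_option autoImplicit false
set_option backward.isDefEq.respectTransparency false
set_option backward.isDefEq.respectTransparency.types false

universe u

noncomputable section

open TensorProduct HopfRep Groth.Agent.CommAlg4.CharFin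
open Coalgebra (comul counit)

namespace Groth.Agent.Chev8.Line

theorem coeff_eq_zero {V M X : Type u} [CommRing V] [AddCommGroup M] [Module V M] [AddCommGroup X] [Module V X]
    [Module.Flat V X] {ι : Type} [Fintype ι] [DecidableEq ι] {v : ι → M} (hv : LinearIndependent V v)
    {x : ι → X} (h : ∑ i, v i ⊗ₜ[V] x i = 0) (i : ι) : x i = 0 := by
  have hinj : Function.Injective (Fintype.linearCombination V v) :=
    (injective_iff_map_eq_zero _).2 fun g hg => funext (Fintype.linearIndependent_iff.1 hv g
      (by simpa [Fintype.linearCombination_apply] using hg))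
  have h1 : LinearMap.rTensor X (Fintype.linearCombination V v) (∑ i, (Pi.single i (1 : V)) ⊗ₜ[V] x i) = 0 := by
    rw [map_sum, ← h]
    simp [Fintype.linearCombination_apply_single]
  have h2 := (Module.Flat.rTensor_preserves_injective_linearMap (M := X) _ hinj) (h1.trans (map_zero _).symm)
  have h3 := congrArg (fun t => TensorProduct.piScalarRight V V X ι (TensorProduct.comm V _ _ t) i) h2
  simpa [map_sum, Finset.sum_apply, Pi.single_apply] using h3

theorem coeff_unique {V M X : Type u} [CommRing V] [AddCommGroup M] [Module V M] [AddCommGroup X] [Module V X]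
    [Module.Flat V X] {ι : Type} [Fintype ι] [DecidableEq ι] {v : ι → M} (hv : LinearIndependent V v)
    {x y : ι → X} (h : ∑ i, v i ⊗ₜ[V] x i = ∑ i, v i ⊗ₜ[V] y i) (i : ι) : x i = y i :=
  sub_eq_zero.1 (coeff_eq_zero hv (x := fun i => x i - y i)
    (by simp [tmul_sub, Finset.sum_sub_distrib, h]) i)

variable {V A B : Type u} [CommRing V] [IsDomain V] [IsPrincipalIdealRing V]
  [CommRing A] [HopfAlgebra V A] [Module.Flat V A] [CommRing B] [HopfAlgebra V B] [Module.Flat V B]

/-- An adapted multiplicative matrix: the subgroup is cut out by the lower left block. -/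
theorem exists_block [Algebra.FiniteType V A] (π : A →ₐc[V] B) :
    ∃ (r q : ℕ) (a : Matrix (Fin (r + q)) (Fin (r + q)) A),
      IsMultMat (k := V) a ∧
      Algebra.adjoin V (Set.range fun p : Fin (r + q) × Fin (r + q) => a p.1 p.2) = ⊤ ∧
      RingHom.ker π = Ideal.span (Set.range fun p : Fin q × Fin r => a (Fin.natAdd r p.1) (Fin.castAdd q p.2)) := by
  classical
  haveI : IsNoetherianRing A := Algebra.FiniteType.isNoetherianRing V A
  obtain ⟨s, hs⟩ := (Algebra.FiniteType.out : (⊤ : Subalgebra V A).FG)
  obtain ⟨t, ht⟩ := IsNoetherian.noetherian (RingHom.ker π : Ideal A)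
  obtain ⟨W, hWfg, hsub, hW⟩ := SGA3Union.exists_fg_isSubcomod (R := V) (A := A) (V := A) (s ∪ t)
  let f : ↥W →ₗ[V] B := (π : A →ₗ[V] B).comp W.subtype
  haveI : Module.Finite V ↥W := Module.Finite.iff_fg.2 hWfg
  haveI : Module.IsTorsionFree V A := Module.Flat.isTorsionFree
  haveI : Module.IsTorsionFree V B := Module.Flat.isTorsionFree
  haveI : Module.IsTorsionFree V ↥W := inferInstance
  haveI : Module.Free V (LinearMap.range f) := Module.free_of_finite_type_torsion_free'
  haveI : Module.Free V (LinearMap.ker f) := @Module.free_of_finite_type_torsion_free' V _ (LinearMap.ker f)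
    (Submodule.addCommGroup _) _ _ _ _ _
  obtain ⟨nK, ⟨bK⟩⟩ : ∃ n, Nonempty (Module.Basis (Fin n) V (LinearMap.ker f)) := ⟨_, ⟨Module.finBasis V _⟩⟩
  obtain ⟨nP, ⟨bP⟩⟩ : ∃ n, Nonempty (Module.Basis (Fin n) V (LinearMap.range f)) := ⟨_, ⟨Module.finBasis V _⟩⟩
  choose w hw using fun i => (bP i).2
  let e : Fin nK ⊕ Fin nP → A := Sum.elim (fun j => ((bK j : ↥W) : A)) (fun i => ((w i : ↥W) : A))
  have hπK : ∀ j, π (e (Sum.inl j)) = 0 := fun j => (bK j).2
  have hπP : ∀ i, π (e (Sum.inr i)) = (bP i : B) := fun i => hw i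
  have hliP : LinearIndependent V (fun i => (bP i : B)) :=
    bP.linearIndependent.map' (LinearMap.range f).subtype (Submodule.ker_subtype _)
  have hli : LinearIndependent V e := by
    rw [Fintype.linearIndependent_iff]
    intro g hg
    rw [Fintype.sum_sum_type] at hg
    have h1 := congrArg π hg
    simp only [map_add, map_sum, map_smul, hπK, smul_zero, Finset.sum_const_zero, zero_add, hπP, map_zero] at h1
    have hgr := Fintype.linearIndependent_iff.1 hliP (fun i => g (Sum.inr i)) h1
    simp only [hgr, zero_smul, Finset.sum_const_zero, add_zero] at hg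
    have h2 : ∑ j, g (Sum.inl j) • bK j = 0 := by
      apply Subtype.val_injective
      apply Subtype.val_injective
      simpa [e, Submodule.coe_sum] using hg
    have hgl : ∀ j, g (Sum.inl j) = 0 := fun j => by
      have h3 := congrArg (fun z => bK.repr z j) h2
      simpa [map_sum, Finsupp.single_apply] using h3
    rintro (j | i)
    exacts [hgl j, hgr i]
  have hspan : Submodule.span V (Set.range e) = W := by
    refine le_antisymm (Submodule.span_le.2 ?_) fun x hx => ?_
    · rintro _ ⟨j | i, rfl⟩
      exacts [(bK j : ↥W).2, (w i).2]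
    let c := bP.repr ⟨f ⟨x, hx⟩, _, rfl⟩
    have hz : (⟨x, hx⟩ : ↥W) - ∑ i, c i • w i ∈ LinearMap.ker f := by
      rw [LinearMap.mem_ker, map_sub, sub_eq_zero, map_sum]
      have := congrArg Subtype.val (bP.sum_repr ⟨f ⟨x, hx⟩, _, rfl⟩)
      simp only [Submodule.coe_sum, Submodule.coe_smul] at this
      rw [← this]
      simp [c, hw]
    have h2 := congrArg (fun z : LinearMap.ker f => ((z : ↥W) : A)) (bK.sum_repr ⟨_, hz⟩)
    simp only [Submodule.coe_sum, Submodule.coe_smul, Submodule.coe_sub] at h2
    rw [eq_sub_iff_add_eq] at h2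
    rw [← h2]
    refine Submodule.add_mem _ (Submodule.sum_mem _ fun j _ => Submodule.smul_mem _ _ ?_)
      (Submodule.sum_mem _ fun i _ => Submodule.smul_mem _ _ ?_)
    · exact Submodule.subset_span ⟨Sum.inl j, rfl⟩
    · exact Submodule.subset_span ⟨Sum.inr i, rfl⟩
  -- coefficients
  have hco : ∀ j, ∃ x : _ → A, comul (R := V) (e j) = ∑ i, e i ⊗ₜ[V] x i := by
    intro j
    obtain ⟨T, hT⟩ := hW (e j) (hspan ▸ Submodule.subset_span ⟨j, rfl⟩)
    change _ = comul (R := V) (e j) at hT
    rw [← hT]
    clear hT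
    induction T using TensorProduct.induction_on with
    | zero => exact ⟨0, by simp⟩
    | tmul m y =>
      have hm' : (m : A) ∈ Submodule.span V (Set.range e) := by rw [hspan]; exact m.2
      obtain ⟨g, hg⟩ := (Submodule.mem_span_range_iff_exists_fun V).1 hm'
      refine ⟨fun i => g i • y, ?_⟩
      rw [LinearMap.rTensor_tmul, Submodule.subtype_apply, ← hg, TensorProduct.sum_tmul]
      simp only [TensorProduct.smul_tmul]
    | add p p' hp hp' =>
      obtain ⟨x, hx⟩ := hp
      obtain ⟨x', hx'⟩ := hp'
      exact ⟨fun i => x i + x' i, by simp [map_add, hx, hx', tmul_add, Finset.sum_add_distrib]⟩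
  choose a ha using hco
  have hcounit : ∀ i j, counit (R := V) (a j i) = if i = j then 1 else 0 := by
    intro i j
    have h1 := Coalgebra.lTensor_counit_comul (R := V) (e j)
    rw [ha, map_sum] at h1
    simp only [LinearMap.lTensor_tmul] at h1
    have h2 := congrArg (TensorProduct.rid V A) h1
    simp only [map_sum, TensorProduct.rid_tmul, one_smul] at h2
    have h3 : ∑ i, (counit (R := V) (a j i) - if i = j then 1 else 0) • e i = 0 := by
      simp [sub_smul, Finset.sum_sub_distrib, h2, ite_smul]
    exact sub_eq_zero.1 (Fintype.linearIndependent_iff.1 hli _ h3 i)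
  have hcomul : ∀ i j, comul (R := V) (a j i) = ∑ l, a l i ⊗ₜ[V] a j l := by
    intro i j
    refine coeff_unique hli (x := fun i => comul (R := V) (a j i)) (y := fun i => ∑ l, a l i ⊗ₜ[V] a j l) ?_ i
    have h1 := Coalgebra.coassoc_apply (R := V) (e j)
    rw [ha, map_sum, map_sum, map_sum] at h1
    simp only [LinearMap.rTensor_tmul, LinearMap.lTensor_tmul, ha, TensorProduct.sum_tmul, map_sum,
      TensorProduct.assoc_tmul] at h1
    rw [← h1]
    simp only [TensorProduct.tmul_sum]
    exact Finset.sum_comm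
  have hlid : ∀ j, e j = ∑ i, counit (R := V) (e i) • a j i := by
    intro j
    have h1 := Coalgebra.rTensor_counit_comul (R := V) (e j)
    rw [ha, map_sum] at h1
    have h2 := congrArg (TensorProduct.lid V A) h1
    simpa using h2.symm
  have hπa : ∀ j i, π (a (Sum.inl j) (Sum.inr i)) = 0 := by
    intro j i
    refine coeff_eq_zero (x := fun i => π (a (Sum.inl j) (Sum.inr i))) hliP ?_ i
    have h1 := LinearMap.congr_fun π.map_comp_comul (e (Sum.inl j))
    simp only [LinearMap.comp_apply] at h1
    rw [ha, map_sum] at h1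
    simp only [TensorProduct.map_tmul] at h1
    rw [show π.toLinearMap (e (Sum.inl j)) = 0 from hπK j, map_zero, Fintype.sum_sum_type] at h1
    change ∑ x, π (e (Sum.inl x)) ⊗ₜ[V] π (a (Sum.inl j) (Sum.inl x)) +
      ∑ x, π (e (Sum.inr x)) ⊗ₜ[V] π (a (Sum.inl j) (Sum.inr x)) = 0 at h1
    simpa [hπK, hπP] using h1
  have hεK : ∀ j, counit (R := V) (e (Sum.inl j)) = 0 := fun j => by
    have h1 := LinearMap.congr_fun π.counit_comp (e (Sum.inl j))
    simp only [LinearMap.comp_apply] at h1
    rw [← h1, show π.toLinearMap (e (Sum.inl j)) = 0 from hπK j, map_zero]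
  let σ := (finSumFinEquiv : Fin nK ⊕ Fin nP ≃ _)
  refine ⟨_, _, fun i j => a (σ.symm j) (σ.symm i), ⟨fun i j => ?_, fun i j => ?_⟩, ?_, ?_⟩
  · rw [hcomul, ← σ.symm.sum_comp]
  · rw [hcounit]
    simp
  · rw [eq_top_iff, ← hs]
    refine Algebra.adjoin_le fun x hx => ?_
    have hxs : x ∈ Submodule.span V (Set.range e) := by rw [hspan]; exact hsub (Finset.mem_union_left _ hx)
    obtain ⟨g, hg⟩ := (Submodule.mem_span_range_iff_exists_fun V).1 hxs
    rw [← hg]
    refine sum_mem fun j _ => Subalgebra.smul_mem _ ?_ _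
    rw [hlid j]
    refine sum_mem fun i _ => Subalgebra.smul_mem _ ?_ _
    exact Algebra.subset_adjoin (Set.mem_range.2 ⟨(σ i, σ j), by simp⟩)
  · refine le_antisymm ?_ (Ideal.span_le.2 ?_)
    · rw [← ht, Submodule.span_le]
      intro x hx
      have hxW : x ∈ W := hsub (Finset.mem_union_right _ hx)
      have hxπ : (π x : B) = 0 := RingHom.mem_ker.1 (ht ▸ Submodule.subset_span hx)
      have hk : (⟨x, hxW⟩ : ↥W) ∈ LinearMap.ker f := hxπ
      have h2 := congrArg (fun z : LinearMap.ker f => ((z : ↥W) : A)) (bK.sum_repr ⟨_, hk⟩)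
      simp only [Submodule.coe_sum, Submodule.coe_smul] at h2
      rw [← h2]
      refine Submodule.sum_mem _ fun j _ => ?_
      change bK.repr _ j • e (Sum.inl j) ∈ _
      rw [hlid, Fintype.sum_sum_type]
      simp only [hεK, zero_smul, Finset.sum_const_zero, zero_add, Finset.smul_sum]
      refine Submodule.sum_mem _ fun i _ => Submodule.smul_of_tower_mem _ _ (Submodule.smul_of_tower_mem _ _
        (Ideal.subset_span ⟨(i, j), ?_⟩))
      simp [σ]
    · rintro _ ⟨⟨i, j⟩, rfl⟩
      simpa [σ] using hπa j i

theorem exists_perm {r N : ℕ} (g : Fin r ↪o Fin N) (f : Fin r → Fin N) (hf : Function.Injective f)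
    (h : ∀ l, f l ∈ Set.range g) : ∃ σ : Equiv.Perm (Fin r), f = g ∘ σ := by
  choose s hs using h
  exact ⟨Equiv.ofBijective s (Finite.injective_iff_bijective.1 fun a b hab => hf (by rw [← hs a, hab, hs b])),
    funext fun l => (hs l).symm⟩

theorem exists_sorted {r N : ℕ} (f : Fin r → Fin N) (hf : Function.Injective f) :
    ∃ (S : Set.powersetCard (Fin N) r) (σ : Equiv.Perm (Fin r)),
      f = Set.powersetCard.ofFinEmbEquiv.symm S ∘ σ := by
  classical
  let s : Finset (Fin N) := Finset.univ.image f
  have hs : s.card = r := by rw [Finset.card_image_of_injective _ hf, Finset.card_fin]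
  refine ⟨Set.powersetCard.ofFinEmbEquiv (s.orderEmbOfFin hs), exists_perm _ f hf fun l => ?_⟩
  rw [Equiv.symm_apply_apply, Finset.range_orderEmbOfFin]
  exact Finset.mem_image_of_mem f (Finset.mem_univ l)

theorem span_block_eq {R : Type u} [CommRing R] {r q : ℕ} (a a' : Matrix (Fin (r + q)) (Fin (r + q)) R)
    (hinv : a' * a = 1) :
    Ideal.span (Set.range fun p : Fin q × Fin r => a (Fin.natAdd r p.1) (Fin.castAdd q p.2)) =
      Ideal.span ((fun S => compound r a S (Set.powersetCard.ofFinEmbEquiv (Fin.castAddOrderEmb q))) ''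
        {S | S ≠ Set.powersetCard.ofFinEmbEquiv (Fin.castAddOrderEmb q)}) := by
  classical
  set S0 := Set.powersetCard.ofFinEmbEquiv (Fin.castAddOrderEmb (n := r) q) with hS0
  have hc : (Set.powersetCard.ofFinEmbEquiv.symm S0 : Fin r → Fin (r + q)) = Fin.castAdd q := by
    rw [hS0, Equiv.symm_apply_apply]; rfl
  refine le_antisymm (Ideal.span_le.2 ?_) (Ideal.span_le.2 ?_)
  · rintro _ ⟨⟨i, j⟩, rfl⟩
    set J := Ideal.span ((fun S => compound r a S S0) '' {S | S ≠ S0}) with hJ
    let φ := Ideal.Quotient.mk J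
    have hzero : ∀ S, S ≠ S0 → φ (compound r a S S0) = 0 := fun S hS =>
      Ideal.Quotient.eq_zero_iff_mem.2 (Ideal.subset_span ⟨S, hS, rfl⟩)
    have hunit : IsUnit (φ (compound r a S0 S0)) := by
      refine IsUnit.of_mul_eq_one_right (φ (compound r a' S0 S0)) ?_
      have h1 := congrArg φ (congrFun (congrFun ((compound_mul r a' a).symm.trans
        (by rw [hinv, compound_one])) S0) S0)
      rw [Matrix.mul_apply, map_sum, Matrix.one_apply_eq, map_one,
        Finset.sum_eq_single S0 (fun S _ hS => by rw [map_mul, hzero S hS, mul_zero]) (by simp), map_mul] at h1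
      exact h1
    let Mg : Matrix (Fin r) (Fin r) (R ⧸ J) := (a.map φ).submatrix (Fin.castAdd q) (Fin.castAdd q)
    let x : Fin r → R ⧸ J := fun l => φ (a (Fin.natAdd r i) (Fin.castAdd q l))
    have hdet : Mg.det = φ (compound r a S0 S0) := by
      rw [compound, RingHom.map_det, hc]; rfl
    have hmin : ∀ l, (Mg.updateRow l x).det = 0 := by
      intro l
      let f : Fin r → Fin (r + q) := Function.update (Fin.castAdd q) l (Fin.natAdd r i)
      have hne : ∀ (b : Fin r) (c : Fin q), (Fin.castAdd q b : Fin (r + q)) ≠ Fin.natAdd r c := fun b c h => by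
        have := congrArg Fin.val h
        simp at this
        omega
      have hf : Function.Injective f := by
        intro b c hbc
        simp only [f, Function.update_apply] at hbc
        split_ifs at hbc with hb hc hc
        · rw [hb, hc]
        · exact absurd hbc.symm (hne c i)
        · exact absurd hbc (hne b i)
        · exact Fin.castAdd_injective r q hbc
      obtain ⟨S, σ, hσ⟩ := exists_sorted f hf
      have hS : S ≠ S0 := by
        intro hS
        have := congrFun hσ l
        rw [Function.comp_apply, hS, hc] at this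
        simp only [f, Function.update_self] at this
        exact hne _ i this.symm
      have heq : Mg.updateRow l x = ((a.map φ).submatrix (Set.powersetCard.ofFinEmbEquiv.symm S)
          (Fin.castAdd q)).submatrix σ id := by
        ext b c
        rw [Matrix.submatrix_submatrix, ← hσ]
        simp only [Mg, x, f, Matrix.updateRow_apply, Matrix.submatrix_apply, Matrix.map_apply, Function.update_apply,
          Function.comp_id]
        split_ifs <;> rfl
      rw [heq, Matrix.det_permute]
      have := hzero S hS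
      rw [compound, RingHom.map_det, hc] at this
      change _ * ((a.map φ).submatrix _ _).det = 0
      rw [show ((a.map φ).submatrix (Set.powersetCard.ofFinEmbEquiv.symm S) (Fin.castAdd q)).det = 0 from this,
        mul_zero]
    have hcr : Matrix.cramer Mg.transpose x = 0 := by
      funext l
      rw [Matrix.cramer_transpose_apply, hmin l]
      rfl
    have hx := Matrix.mulVec_cramer Mg.transpose x
    rw [hcr, Matrix.mulVec_zero, Matrix.det_transpose] at hx
    have hxj := congrFun hx j
    rw [Pi.smul_apply, Pi.zero_apply, smul_eq_mul, hdet] at hxj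
    exact Ideal.Quotient.eq_zero_iff_mem.1 (hunit.mul_right_eq_zero.1 hxj.symm)
  · rintro _ ⟨S, hS, rfl⟩
    set K := Ideal.span (Set.range fun p : Fin q × Fin r => a (Fin.natAdd r p.1) (Fin.castAdd q p.2))
    obtain ⟨l, hl⟩ : ∃ l, r ≤ (Set.powersetCard.ofFinEmbEquiv.symm S l : ℕ) := by
      by_contra hlt
      push Not at hlt
      apply hS
      apply Set.powersetCard.ofFinEmbEquiv.symm.injective
      refine DFunLike.ext _ _ fun b => ?_
      have hm : StrictMono fun b : Fin r => (⟨_, hlt b⟩ : Fin r) := fun b c hbc =>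
        (Set.powersetCard.ofFinEmbEquiv.symm S).strictMono hbc
      have := congrFun (congrArg DFunLike.coe (Subsingleton.elim
        (StrictMono.orderIsoOfSurjective _ hm (Finite.injective_iff_surjective.1 hm.injective))
        (OrderIso.refl (Fin r)))) b
      rw [hc]
      refine Fin.ext ?_
      simpa [Fin.ext_iff] using this
    apply Ideal.Quotient.eq_zero_iff_mem.1
    show Ideal.Quotient.mk K (compound r a S S0) = 0
    rw [compound, RingHom.map_det]
    refine Matrix.det_eq_zero_of_row_eq_zero l fun c => ?_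
    refine Ideal.Quotient.eq_zero_iff_mem.2 (Ideal.subset_span
      ⟨(⟨(Set.powersetCard.ofFinEmbEquiv.symm S l : ℕ) - r, by omega⟩, c), ?_⟩)
    rw [Matrix.submatrix_apply, hc]
    simp only
    congr 1
    exact Fin.ext (by simp; omega)

/-- The main statement. -/
theorem exists_line [Algebra.FiniteType V A] (π : A →ₐc[V] B) :
    ∃ (d : ℕ) (hd : 0 < d) (a : Matrix (Fin d) (Fin d) A),
      (∀ i j, comul (R := V) (a i j) = ∑ l, a i l ⊗ₜ[V] a l j) ∧
      (∀ i j, counit (R := V) (a i j) = if i = j then 1 else 0) ∧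
      (∃ u : A, u * a.det = 1 ∧
        Algebra.adjoin V (Set.range (fun p : Fin d × Fin d => a p.1 p.2) ∪ {u}) = ⊤) ∧
      RingHom.ker π = Ideal.span (Set.range (fun i : {i : Fin d // i ≠ ⟨0, hd⟩} => a i.1 ⟨0, hd⟩)) := by
  classical
  obtain ⟨r, q, a, ha, hgen, hker⟩ := exists_block π
  let a' : Matrix (Fin (r + q)) (Fin (r + q)) A := a.map (HopfAlgebra.antipode V : A →ₗ[V] A)
  have hinv : a' * a = 1 := by
    ext i j
    have h := HopfAlgebra.mul_antipode_rTensor_comul_apply (R := V) (a i j)
    rw [ha.1, ha.2, map_sum, map_sum] at h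
    simp only [LinearMap.rTensor_tmul, LinearMap.mul'_apply] at h
    rw [Matrix.mul_apply]
    simp only [a', Matrix.map_apply]
    rw [h, Matrix.one_apply]
    split_ifs <;> simp
  set S0 := Set.powersetCard.ofFinEmbEquiv (Fin.castAddOrderEmb (n := r) q) with hS0
  rw [span_block_eq a a' hinv] at hker
  let C := compound r a
  obtain ⟨h1, h2⟩ := (isMultMat_iff a).1 ha
  have hC : C.map (Bialgebra.comulAlgHom V A) = C.map (Algebra.TensorProduct.includeLeft : A →ₐ[V] A ⊗[V] A) *
      C.map (Algebra.TensorProduct.includeRight : A →ₐ[V] A ⊗[V] A) := by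
    have := congrArg (compound r) h1
    rw [compound_mul] at this
    simp only [← AlgHom.coe_toRingHom, compound_map] at this
    exact this
  have hC' : C.map (Bialgebra.counitAlgHom V A) = 1 := by
    have := congrArg (compound r) h2
    rw [compound_one] at this
    simp only [← AlgHom.coe_toRingHom, compound_map] at this
    exact this
  let M : Matrix (Set.powersetCard (Fin (r + q)) r ⊕ Fin (r + q)) (Set.powersetCard (Fin (r + q)) r ⊕ Fin (r + q)) A :=
    Matrix.fromBlocks C 0 0 a
  have hM : IsMultMat (k := V) M := by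
    rw [isMultMat_iff]
    refine ⟨?_, ?_⟩
    · simp only [M, Matrix.fromBlocks_map, Matrix.fromBlocks_multiply, Matrix.map_zero _ (map_zero _), hC, h1,
        Matrix.mul_zero, Matrix.zero_mul, add_zero, zero_add]
    · simp only [M, Matrix.fromBlocks_map, Matrix.map_zero _ (map_zero _), hC', h2, Matrix.fromBlocks_one]
  have hu : IsUnit M.det := by
    rw [Matrix.det_fromBlocks_zero₂₁]
    refine IsUnit.mul (IsUnit.of_mul_eq_one_right (compound r a').det ?_) (IsUnit.of_mul_eq_one_right a'.det ?_)
    · rw [← Matrix.det_mul, ← compound_mul, hinv, compound_one, Matrix.det_one]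
    · rw [← Matrix.det_mul, hinv, Matrix.det_one]
  let ι := Set.powersetCard (Fin (r + q)) r ⊕ Fin (r + q)
  have hd : 0 < Fintype.card ι := Fintype.card_pos_iff.2 ⟨Sum.inl S0⟩
  let e : Fin (Fintype.card ι) ≃ ι := (Fintype.equivFin ι).symm.trans
    (Equiv.swap ((Fintype.equivFin ι).symm ⟨0, hd⟩) (Sum.inl S0))
  have he0 : e ⟨0, hd⟩ = Sum.inl S0 := by simp [e]
  have hN := hM.reindex e
  obtain ⟨u, hu⟩ := hu.exists_left_inv
  refine ⟨Fintype.card ι, hd, M.submatrix e e, hN.1, hN.2, ⟨u, by rwa [Matrix.det_submatrix_equiv_self], ?_⟩, ?_⟩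
  · rw [eq_top_iff, ← hgen]
    refine Algebra.adjoin_le ?_
    rintro _ ⟨⟨i, j⟩, rfl⟩
    exact Algebra.subset_adjoin (Or.inl ⟨(e.symm (Sum.inr i), e.symm (Sum.inr j)), by simp [M]⟩)
  · rw [hker]
    refine le_antisymm (Ideal.span_le.2 ?_) (Ideal.span_le.2 ?_)
    · rintro _ ⟨S, hS, rfl⟩
      refine Ideal.subset_span ⟨⟨e.symm (Sum.inl S), fun h => hS ?_⟩, by simp [M, he0, C, hS0]⟩
      have := congrArg e h
      rw [Equiv.apply_symm_apply, he0] at this
      exact Sum.inl_injective this
    · rintro _ ⟨⟨i, hi⟩, rfl⟩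
      simp only [Matrix.submatrix_apply, he0]
      rcases hei : e i with S | l
      · refine Ideal.subset_span ⟨S, fun hS => hi (e.injective ?_), by simp [M, C, hS0]⟩
        rw [hei, he0, hS]
      · simp [M]

end Groth.Agent.Chev8.Line
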